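import Groth.Agent.ConormalLib.Map
import Groth.Agent.HilbObsLib.Ideal
import Groth.Agent.BlowExistsLib.Proper
import Groth.Agent.ProjBundleLib.Projective
import Groth.Agent.ProjBundleLib.Factor
import Groth.Agent.AmpleCritLib.Rel
import Groth.Agent.S8914

/-!
A blow-up in a centre of finite type embeds in the projective bundle of the centre.
-/

set_option autoImplicit false
set_option linter.style.haveILetI false
set_option backward.isDefEq.respectTransparency false
set_option backward.isDefEq.respectTransparency.types false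

universe u

open CategoryTheory CategoryTheory.Limits AlgebraicGeometry TopologicalSpace Opposite
open Groth.Agent.ParaFLib Groth.Agent.PullbackMod Groth.Agent.ProjBundleLib Groth.Agent.BlowExistsLib
open Groth.Agent.BlowChartLib

noncomputable section

namespace Groth.Agent.BlowProjLib

variable {X X' : Scheme.{u}} (𝓘 : X.IdealSheafData) (b : X' ⟶ X)

/-- The inverse image of sections of the centre as sections of the inverse image ideal. -/
theorem exists_theta : ∃ θ : ClSub.idealMod 𝓘 ⟶ (Scheme.Modules.pushforward b).obj (ClSub.idealMod (𝓘.comap b)),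
    ∀ (U : X.Opens) (s : Γ(ClSub.idealMod 𝓘, U)),
      OmegaSh.idealSect (𝓘.comap b) (b ⁻¹ᵁ U) (θ.app U s) = b.app U (OmegaSh.idealSect 𝓘 U s) := by
  let K := 𝓘.comap b
  have h := ConormalLib.exists_idealMap K.subschemeι 𝓘.subschemeι b
    (Scheme.IdealSheafData.subschemeMap K 𝓘 b (Scheme.IdealSheafData.le_map_iff_comap_le.2 le_rfl))
    (Scheme.IdealSheafData.subschemeMap_subschemeι _ _ _ _)
  rw [Scheme.IdealSheafData.ker_subschemeι, Scheme.IdealSheafData.ker_subschemeι] at h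
  exact h

variable {𝓘 b}

theorem germ_structureModule {U : X.Opens} (x : X) (hx : x ∈ U) (f : Γ(X, U)) :
    (Coh.structureModule X).presheaf.germ U x hx (show Γ(Coh.structureModule X, U) from f) =
      X.presheaf.germ U x hx f • oneG x := by
  have h1 : (Coh.structureModule X).presheaf.germ U x hx (1 : Γ(X, U)) = oneG x := by
    rw [oneG, ← TopCat.Presheaf.germ_res_apply (Coh.structureModule X).presheaf (homOfLE (le_top : U ≤ ⊤)) x hx]
    exact congrArg _ (map_one (X.presheaf.map (homOfLE (le_top : U ≤ ⊤)).op).hom).symm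
  rw [← h1, ← germ_smul' x hx f]
  exact congrArg _ (smul_one_eq f).symm

variable {θ : ClSub.idealMod 𝓘 ⟶ (Scheme.Modules.pushforward b).obj (ClSub.idealMod (𝓘.comap b))}
  (hθ : ∀ (U : X.Opens) (s : Γ(ClSub.idealMod 𝓘, U)),
      OmegaSh.idealSect (𝓘.comap b) (b ⁻¹ᵁ U) (θ.app U s) = b.app U (OmegaSh.idealSect 𝓘 U s))

include hθ in
theorem stalkLin_theta (U : X.affineOpens) (x : X') (hx : b x ∈ U.1) (e : Γ(ClSub.idealMod 𝓘, U.1)) :
    stalkLin (ClSub.idealModι (𝓘.comap b)) x (germφ θ x hx e) =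
      gerA b x hx (OmegaSh.idealSect 𝓘 U.1 e) • oneG x := by
  rw [germφ, stalkLin_germ, gerA, Scheme.Hom.germ_stalkMap_apply, ← hθ]
  exact germ_structureModule x hx _

theorem stalkLin_injective (x : X') : Function.Injective (stalkLin (ClSub.idealModι (𝓘.comap b)) x) := by
  haveI : Mono (ClSub.idealModι (𝓘.comap b)) := by unfold ClSub.idealModι; infer_instance
  exact (mono_iff_stalk _).1 inferInstance x

include hθ in
/-- A section generates exactly on its chart. -/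
theorem bijective_theta_iff (hb : BlowUp.IsBlowUp b 𝓘) (U : X.affineOpens) (x : X') (hx : b x ∈ U.1)
    (e : Γ(ClSub.idealMod 𝓘, U.1)) :
    (Function.Bijective fun c : X'.presheaf.stalk x => c • germφ θ x hx e) ↔
      x ∈ chartOpen 𝓘 U (OmegaSh.idealSect 𝓘 U.1 e) b := by
  have ha : OmegaSh.idealSect 𝓘 U.1 e ∈ 𝓘.ideal U := (OmegaAffLib.mem_range_idealSect 𝓘 U _).2 ⟨e, rfl⟩
  constructor
  · intro hbij
    refine mem_chartOpen_of_stalk hb.1 ha hx (le_antisymm (fun r hr => ?_) ?_)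
    · obtain ⟨n, hn⟩ := (HilbObsLib.mem_range_idealModι (𝓘.comap b) x r).2 hr
      obtain ⟨c, rfl⟩ := hbij.2 n
      rw [LinearMap.map_smul, stalkLin_theta hθ U x hx e, ← mul_smul] at hn
      exact Ideal.mem_span_singleton'.2 ⟨c, (bijective_oneG x).1 hn⟩
    · rw [Ideal.span_singleton_le_iff_mem]
      exact gerA_mem b x hx ha
  · intro hmem
    obtain ⟨hx', hs⟩ := stalk_generated hmem
    have hn := generator_mem_nonZeroDivisors hb.1 x hs
    constructor
    · intro c c' h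
      have h1 := congrArg (stalkLin (ClSub.idealModι (𝓘.comap b)) x) h
      simp only [LinearMap.map_smul, stalkLin_theta hθ U x hx e, ← mul_smul] at h1
      exact (mul_cancel_right_mem_nonZeroDivisors hn).1 ((bijective_oneG x).1 h1)
    · intro n
      obtain ⟨r, hr⟩ := (bijective_oneG x).2 (stalkLin (ClSub.idealModι (𝓘.comap b)) x n)
      have hr' := (HilbObsLib.mem_range_idealModι (𝓘.comap b) x r).1 ⟨n, hr.symm⟩
      rw [hs] at hr'
      obtain ⟨c, hc⟩ := Ideal.mem_span_singleton'.1 hr'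
      refine ⟨c, stalkLin_injective x ?_⟩
      show stalkLin (ClSub.idealModι (𝓘.comap b)) x (c • germφ θ x hx e) = _
      rw [LinearMap.map_smul, stalkLin_theta hθ U x hx e, ← mul_smul, hc]
      exact hr

include hθ in
theorem gens_theta (hb : BlowUp.IsBlowUp b 𝓘) :
    Epi (((Scheme.Modules.pullbackPushforwardAdjunction b).homEquiv (ClSub.idealMod 𝓘) _).symm θ) := by
  refine (PullbackMod.epi_iff_stalk _).2 fun x z => ?_
  obtain ⟨_, ⟨U, hU, rfl⟩, hxU, -⟩ :=
    X.isBasis_affineOpens.exists_subset_of_mem_open (Set.mem_univ (b x)) isOpen_univ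
  obtain ⟨a, ha, hxa⟩ := BlowExistsLib.exists_mem_chartOpen hb.1 (U := ⟨U, hU⟩) _
    (Ideal.span_eq (𝓘.ideal ⟨U, hU⟩)) x hxU
  obtain ⟨e, rfl⟩ := (OmegaAffLib.mem_range_idealSect 𝓘 ⟨U, hU⟩ a).1 ha
  obtain ⟨c, rfl⟩ := ((bijective_theta_iff hθ hb ⟨U, hU⟩ x hxU e).2 hxa).2 z
  refine ⟨c • pullStalk b (ClSub.idealMod 𝓘) x ((ClSub.idealMod 𝓘).presheaf.germ U (b x) hxU e), ?_⟩
  rw [LinearMap.map_smul, stalkLin_adjunct b θ x hxU e]
  rfl

theorem isClosedImmersion_restrict_of_surjective {Z W : Scheme.{u}} (f : Z ⟶ W) {V : W.Opens}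
    (hV : IsAffineOpen V) (hV' : IsAffineOpen (f ⁻¹ᵁ V)) (h : Function.Surjective (f.app V)) :
    IsClosedImmersion (f ∣_ V) := by
  haveI : IsAffine V := hV
  haveI : IsAffine (f ⁻¹ᵁ V).toScheme := hV'
  refine IsClosedImmersion.of_surjective_of_isAffine _ ?_
  have h' : ∀ O : W.Opens, O = V → Function.Surjective (f.app O) := by rintro _ rfl; exact h
  rw [morphismRestrict_appTop]
  intro z
  obtain ⟨y, hy⟩ := (ConcreteCategory.bijective_of_isIso
    (Z.presheaf.map (eqToHom (image_morphismRestrict_preimage f V ⊤)).op)).2 z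
  obtain ⟨w, hw⟩ := h' _ V.ι_image_top y
  exact ⟨w, by rw [← hy, ← hw]; rfl⟩

section

variable (hb : BlowUp.IsBlowUp b 𝓘) {U : X.affineOpens} {a : Γ(X, U.1)} (ha : a ∈ 𝓘.ideal U)

theorem top_le_emb : (⊤ : (Spec (CommRingCat.of (ChartAlg 𝓘 U a))).Opens) ≤ emb hb ha ⁻¹ᵁ chartOpen 𝓘 U a b :=
  fun z _ => by
    show emb hb ha z ∈ chartOpen 𝓘 U a b
    rw [← opensRange_emb hb ha]
    exact ⟨z, rfl⟩

/-- The functions on a chart. -/
def chartFun : Γ(X', chartOpen 𝓘 U a b) →+* ChartAlg 𝓘 U a :=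
  ((emb hb ha).appLE (chartOpen 𝓘 U a b) ⊤ (top_le_emb hb ha) ≫
    (Scheme.ΓSpecIso (CommRingCat.of (ChartAlg 𝓘 U a))).hom).hom

theorem chartFun_injective : Function.Injective (chartFun hb ha) := by
  haveI : IsIso ((emb hb ha).app (chartOpen 𝓘 U a b)) :=
    (emb hb ha).isIso_app _ (opensRange_emb hb ha).ge
  have h1 : emb hb ha ⁻¹ᵁ chartOpen 𝓘 U a b = ⊤ := top_le_iff.1 (top_le_emb hb ha)
  haveI : IsIso ((emb hb ha).appLE (chartOpen 𝓘 U a b) ⊤ (top_le_emb hb ha)) := by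
    rw [Scheme.Hom.appLE]
    haveI : IsIso (homOfLE (top_le_emb hb ha)) := ⟨homOfLE h1.le, Subsingleton.elim _ _, Subsingleton.elim _ _⟩
    infer_instance
  exact (ConcreteCategory.bijective_of_isIso ((emb hb ha).appLE (chartOpen 𝓘 U a b) ⊤ (top_le_emb hb ha) ≫
    (Scheme.ΓSpecIso (CommRingCat.of (ChartAlg 𝓘 U a))).hom)).1

theorem chartFun_base (e : chartOpen 𝓘 U a b ≤ b ⁻¹ᵁ U.1) (r : Γ(X, U.1)) :
    chartFun hb ha (b.appLE U.1 (chartOpen 𝓘 U a b) e r) = algebraMap Γ(X, U.1) (ChartAlg 𝓘 U a) r := by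
  show (Scheme.ΓSpecIso _).hom ((emb hb ha).appLE (chartOpen 𝓘 U a b) ⊤ (top_le_emb hb ha)
    (b.appLE U.1 (chartOpen 𝓘 U a b) e r)) = _
  rw [← CommRingCat.comp_apply (b.appLE _ _ _), Scheme.Hom.appLE_comp_appLE]
  have key : ∀ (F : Spec (CommRingCat.of (ChartAlg 𝓘 U a)) ⟶ X), F = chartMap 𝓘 U a → ∀ hF,
      F.appLE U.1 ⊤ hF r = (chartMap 𝓘 U a).appLE U.1 ⊤ (le_preimage_chartMap 𝓘 U a) r := by
    rintro _ rfl hF
    rfl
  rw [key _ (emb_comp hb ha)]
  erw [appLE_chartMap]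
  exact congr(($((Scheme.ΓSpecIso (CommRingCat.of (ChartAlg 𝓘 U a))).inv_hom_id)).hom (algebraMap Γ(X, U.1) (ChartAlg 𝓘 U a) r))

end

include hθ in
/-- A morphism to the bundle compatible with the inverse image of the centre is a closed immersion. -/
theorem isClosedImmersion_of_compat (hb : BlowUp.IsBlowUp b 𝓘) {P : Scheme.{u}} {p : P ⟶ X} {O1 : P.Modules}
    {φ : ClSub.idealMod 𝓘 ⟶ (Scheme.Modules.pushforward p).obj O1} (D : PData p (ClSub.idealMod 𝓘) O1 φ)
    (r : X' ⟶ P) (hr : Compat φ θ (𝟙 X') r) : IsClosedImmersion r := by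
  have hrp : r ≫ p = b := hr.1.trans (Category.id_comp b)
  have hrp' : ∀ x, p (r x) = b x := fun x => congr(($hrp) x)
  let κ := Σ U : X.affineOpens, Γ(ClSub.idealMod 𝓘, U.1)
  refine (IsZariskiLocalAtTarget.iff_of_iSup_eq_top (P := @IsClosedImmersion) (fun q : κ => D.DPl q.1.2 q.2) ?_).2 fun q => ?_
  · refine top_le_iff.1 fun y _ => ?_
    obtain ⟨U, hU, e, -, he⟩ := D.exists_chart_gen y
    exact Opens.mem_iSup.2 ⟨⟨⟨U, hU⟩, e⟩, he⟩
  obtain ⟨U, e⟩ := q
  let a := OmegaSh.idealSect 𝓘 U.1 e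
  have ha : a ∈ 𝓘.ideal U := (OmegaAffLib.mem_range_idealSect 𝓘 U _).2 ⟨e, rfl⟩
  have hpre : r ⁻¹ᵁ D.DPl U.2 e = chartOpen 𝓘 U a b := by
    ext x
    constructor
    · intro hx
      have hy : p (r x) ∈ U.1 := D.DPl_le U.2 e hx
      have hx' : b x ∈ U.1 := hrp' x ▸ hy
      exact (bijective_theta_iff hθ hb U x hx' e).1 ((hr.2 U.1 e x hy hx').1.1 ((D.mem_DPl_iff U.2 e hy).1 hx))
    · intro hx
      have hx' : b x ∈ U.1 := chartOpen_le_preimage b hx
      have hy : p (r x) ∈ U.1 := (hrp' x).symm ▸ hx'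
      exact (D.mem_DPl_iff U.2 e hy).2 ((hr.2 U.1 e x hy hx').1.2 ((bijective_theta_iff hθ hb U x hx' e).2 hx))
  refine isClosedImmersion_restrict_of_surjective r (D.isAffineOpen_DPl U.2 e)
    (hpre ▸ isAffineOpen_chartOpen hb ha) ?_
  have hle : chartOpen 𝓘 U a b ≤ r ⁻¹ᵁ D.DPl U.2 e := hpre.ge
  let ρ : Γ(P, D.DPl U.2 e) →+* Γ(X', chartOpen 𝓘 U a b) := (r.appLE (D.DPl U.2 e) (chartOpen 𝓘 U a b) hle).hom
  have hbase : ∀ s, ρ (p.appLE U.1 (D.DPl U.2 e) (D.DPl_le U.2 e) s) =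
      b.appLE U.1 (chartOpen 𝓘 U a b) (chartOpen_le_preimage b) s := fun s => by
    show r.appLE _ _ hle _ = _
    rw [← CommRingCat.comp_apply, Scheme.Hom.appLE_comp_appLE]
    have key : ∀ (F : X' ⟶ X), F = b → ∀ hF, F.appLE U.1 (chartOpen 𝓘 U a b) hF s =
        b.appLE U.1 (chartOpen 𝓘 U a b) (chartOpen_le_preimage b) s := by rintro _ rfl hF; rfl
    exact key _ hrp _
  have hcoord : ∀ e' : Γ(ClSub.idealMod 𝓘, U.1), ρ (D.coord U.2 e e') *
      b.appLE U.1 (chartOpen 𝓘 U a b) (chartOpen_le_preimage b) a =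
        b.appLE U.1 (chartOpen 𝓘 U a b) (chartOpen_le_preimage b) (OmegaSh.idealSect 𝓘 U.1 e') := fun e' => by
    refine TopCat.Presheaf.section_ext X'.sheaf (chartOpen 𝓘 U a b) _ _ fun x hx => ?_
    show X'.presheaf.germ _ x hx _ = X'.presheaf.germ _ x hx _
    rw [map_mul]
    have hx' : b x ∈ U.1 := chartOpen_le_preimage b hx
    have hy : p (r x) ∈ U.1 := (hrp' x).symm ▸ hx'
    have hbij := (bijective_theta_iff hθ hb U x hx' e).2 hx
    obtain ⟨c', hc'⟩ := hbij.2 (germφ θ x hx' e')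
    have h1 := (hr.2 U.1 e x hy hx').2 e' _ c' hbij (D.germφ_eq U.2 e e' (hle hx)).symm hc'
    rw [germ_stalkMap_congr r hle x hx] at h1
    have h2 : (Scheme.Hom.stalkMap (𝟙 X') x).hom c' = c' := by simp
    have h3 := congrArg (stalkLin (ClSub.idealModι (𝓘.comap b)) x) hc'
    simp only [LinearMap.map_smul, stalkLin_theta hθ U x hx', ← mul_smul] at h3
    have h4 := (bijective_oneG x).1 h3
    rw [gerA_eq b a (chartOpen_le_preimage b) x hx, gerA_eq b _ (chartOpen_le_preimage b) x hx, ← h4]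
    exact congrArg (· * _) (h1.trans h2)
  have hsurj : Function.Surjective ρ := by
    intro z
    have : ∀ w : ChartAlg 𝓘 U a, w ∈ ((chartFun hb ha).comp ρ).range := fun w => by
      refine induction_frac (P := fun w => w ∈ ((chartFun hb ha).comp ρ).range)
        (fun s => ⟨p.appLE U.1 (D.DPl U.2 e) (D.DPl_le U.2 e) s, ?_⟩) (fun x hx => ?_)
        (fun _ _ => add_mem) (fun _ _ => mul_mem) w
      · rw [RingHom.comp_apply, hbase, chartFun_base]
      · obtain ⟨e', rfl⟩ := (OmegaAffLib.mem_range_idealSect 𝓘 U x).1 hx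
        refine ⟨D.coord U.2 e e', (mul_cancel_right_mem_nonZeroDivisors
          (BlowChartLib.mem_nonZeroDivisors (A := Γ(X, U.1)) (I := 𝓘.ideal U) (a := a))).1 ?_⟩
        have h := congrArg (chartFun hb ha) (hcoord e')
        rw [map_mul, chartFun_base, chartFun_base] at h
        exact h.trans (frac_mul _ hx).symm
    obtain ⟨w, hw⟩ := this (chartFun hb ha z)
    exact ⟨w, chartFun_injective hb ha hw⟩
  intro z
  obtain ⟨w, hw⟩ := hsurj (X'.presheaf.map (homOfLE hle).op z)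
  refine ⟨w, ?_⟩
  haveI : IsIso (homOfLE hle) := ⟨homOfLE hpre.le, Subsingleton.elim _ _, Subsingleton.elim _ _⟩
  exact (ConcreteCategory.bijective_of_isIso (X'.presheaf.map (homOfLE hle).op)).1 hw

include hθ in
theorem isProjective_of_theta (hft : BlowUp.IsFiniteTypeIdeal 𝓘) (hb : BlowUp.IsBlowUp b 𝓘) :
    RelProj.IsProjective b := by
  obtain ⟨P, p, O1, φ, ⟨D⟩⟩ := exists_bundle (OmegaAffLib.isQCoh_idealMod 𝓘)
  have hL : PicF.IsInvertible (ClSub.idealMod (𝓘.comap b)) := (Groth.Agent.S8914.result (𝓘.comap b)).2 hb.1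
  haveI := gens_theta hθ hb
  obtain ⟨r, hr, -⟩ := existsUnique_compat D hL
    (((Scheme.Modules.pullbackPushforwardAdjunction b).homEquiv (ClSub.idealMod 𝓘) _).symm θ)
  rw [sigma, Equiv.apply_symm_apply] at hr
  haveI := isClosedImmersion_of_compat hθ hb D r hr
  exact D.isProjective_of_isClosedImmersion (AmpleCritLib.isFT_idealMod 𝓘 hft) r (hr.1.trans (Category.id_comp b))

end Groth.Agent.BlowProjLib
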