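import Groth.Agent.ProjBundleLib.Projective
import Groth.Agent.ProjBundleLib.Factor
import Groth.Agent.SeesawVB.Frames
import Groth.Agent.DegDevLib.Wedge
import Mathlib.AlgebraicGeometry.Morphisms.Smooth

/-!
The projective bundle of a finite locally free module is smooth.
-/

set_option autoImplicit false
set_option linter.style.haveILetI false
set_option backward.isDefEq.respectTransparency false
set_option backward.isDefEq.respectTransparency.types false

universe u

open CategoryTheory CategoryTheory.Limits AlgebraicGeometry TopologicalSpace Opposite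
open Groth.Agent.ParaFLib Groth.Agent.ProjBundleLib

noncomputable section

namespace Groth.Agent.BlowProjLib

variable {Y P : Scheme.{u}} {p : P ⟶ Y} {E : Y.Modules} {O1 : P.Modules}
  {φ : E ⟶ (Scheme.Modules.pushforward p).obj O1} (D : PData p E O1 φ)

theorem app_eq_coord {U : Y.Opens} (hU : IsAffineOpen U) (e₀ : Γ(E, U)) (r : Γ(Y, U)) :
    p.appLE U (D.DPl hU e₀) (D.DPl_le hU e₀) r = D.coord hU e₀ (r • e₀) := by
  have h3 : D.sec hU e₀ (r • e₀) = p.appLE U (D.DPl hU e₀) (D.DPl_le hU e₀) r • D.sec hU e₀ e₀ := by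
    unfold PData.sec
    erw [Scheme.Modules.Hom.app_smul φ r e₀]
    exact O1.map_smul (homOfLE (D.DPl_le hU e₀)) (p.app U r) _
  have h4 := D.gen_sec hU e₀ _ le_rfl
  simp only [res_self] at h4
  exact h4.1 (h3.symm.trans (D.sec_eq hU e₀ (r • e₀)))

theorem coord_smul {U : Y.Opens} (hU : IsAffineOpen U) (e₀ e : Γ(E, U)) (r : Γ(Y, U)) :
    D.coord hU e₀ (r • e) = p.appLE U (D.DPl hU e₀) (D.DPl_le hU e₀) r * D.coord hU e₀ e := by
  have h3 : D.sec hU e₀ (r • e) = p.appLE U (D.DPl hU e₀) (D.DPl_le hU e₀) r • D.sec hU e₀ e := by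
    unfold PData.sec
    erw [Scheme.Modules.Hom.app_smul φ r e]
    exact O1.map_smul (homOfLE (D.DPl_le hU e₀)) (p.app U r) _
  rw [D.sec_eq hU e₀ e, ← mul_smul, D.sec_eq hU e₀ (r • e)] at h3
  have h4 := D.gen_sec hU e₀ _ le_rfl
  simp only [res_self] at h4
  exact h4.1 h3

theorem coord_self {U : Y.Opens} (hU : IsAffineOpen U) (e₀ : Γ(E, U)) : D.coord hU e₀ e₀ = 1 := by
  have h4 := D.gen_sec hU e₀ _ le_rfl
  simp only [res_self] at h4
  exact h4.1 ((D.sec_eq hU e₀ e₀).symm.trans (one_smul _ _).symm)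

theorem coord_add {U : Y.Opens} (hU : IsAffineOpen U) (e₀ e e' : Γ(E, U)) :
    D.coord hU e₀ (e + e') = D.coord hU e₀ e + D.coord hU e₀ e' := by
  have h4 := D.gen_sec hU e₀ _ le_rfl
  simp only [res_self] at h4
  refine h4.1 ((D.sec_eq hU e₀ _).symm.trans ?_)
  show _ = (D.coord hU e₀ e + D.coord hU e₀ e') • D.sec hU e₀ e₀
  rw [add_smul, ← D.sec_eq hU e₀ e, ← D.sec_eq hU e₀ e']
  unfold PData.sec
  rw [← map_add]
  exact congrArg _ (map_add _ _ _)

/-- On the chart of a basis vector the bundle is an affine space. -/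
theorem smooth_appLE_DPl {U : Y.Opens} (hU : IsAffineOpen U) {n : ℕ} (b : Module.Basis (Fin n) Γ(Y, U) Γ(E, U))
    (i₀ : Fin n) : (p.appLE U (D.DPl hU (b i₀)) (D.DPl_le hU (b i₀))).hom.Smooth := by
  classical
  let e₀ := b i₀
  let π := (p.appLE U (D.DPl hU e₀) (D.DPl_le hU e₀)).hom
  let σ := {j : Fin n // j ≠ i₀}
  let w : Fin n → MvPolynomial σ Γ(Y, U) := fun j => if h : j = i₀ then 1 else MvPolynomial.X ⟨j, h⟩
  let c : Γ(E, U) →ₗ[Γ(Y, U)] MvPolynomial σ Γ(Y, U) := b.constr Γ(Y, U) w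
  have hcb : ∀ j, c (b j) = w j := fun j => b.constr_basis Γ(Y, U) w j
  obtain ⟨θ, hθ⟩ := D.exists_hom hU e₀ (algebraMap Γ(Y, U) (MvPolynomial σ Γ(Y, U))) c.toAddMonoidHom
    (fun r e => by
      show c (r • e) = _ * c e
      rw [map_smul, Algebra.smul_def])
    (by
      show c (b i₀) = 1
      rw [hcb]
      exact dif_pos rfl)
  letI := π.toAlgebra
  let ψ : MvPolynomial σ Γ(Y, U) →ₐ[Γ(Y, U)] Γ(P, D.DPl hU e₀) :=
    MvPolynomial.aeval fun j : σ => D.coord hU e₀ (b j.1)
  have hψc : ∀ e, ψ (c e) = D.coord hU e₀ e := fun e => by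
    let C : Γ(E, U) →ₗ[Γ(Y, U)] Γ(P, D.DPl hU e₀) :=
      { toFun := D.coord hU e₀
        map_add' := coord_add D hU e₀
        map_smul' := fun r x => by
          rw [RingHom.id_apply, Algebra.smul_def]
          exact coord_smul D hU e₀ x r }
    have : ψ.toLinearMap.comp c = C := b.ext fun j => by
      show ψ (c (b j)) = D.coord hU e₀ (b j)
      rw [hcb]
      by_cases h : j = i₀
      · subst h
        rw [show w j = 1 from dif_pos rfl, map_one]
        exact (coord_self D hU e₀).symm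
      · rw [show w j = MvPolynomial.X ⟨j, h⟩ from dif_neg h]
        exact MvPolynomial.aeval_X _ _
    exact LinearMap.congr_fun this e
  have hψθ : ∀ z, ψ (θ z) = z := fun z => by
    have := RingHom.eq_of_eqOn_set_dense (D.closure_coord hU e₀) (f := ψ.toRingHom.comp θ) (g := RingHom.id _)
      (Set.eqOn_range.2 (funext fun e => by
        show ψ (θ (D.coord hU e₀ e)) = D.coord hU e₀ e
        rw [hθ]
        exact hψc e))
    exact RingHom.congr_fun this z
  have hθπ : ∀ r, θ (π r) = algebraMap Γ(Y, U) (MvPolynomial σ Γ(Y, U)) r := fun r => by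
    show θ (p.appLE U _ _ r) = _
    rw [app_eq_coord, hθ]
    show c (r • b i₀) = _
    rw [map_smul, hcb, show w i₀ = 1 from dif_pos rfl, Algebra.smul_def, mul_one]
  have hθψ : ∀ q, θ (ψ q) = q := fun q => by
    induction q using MvPolynomial.induction_on with
    | C r => rw [← MvPolynomial.algebraMap_eq, AlgHom.commutes]; exact hθπ r
    | add q q' h h' => rw [map_add, map_add, h, h']
    | mul_X q j h =>
      rw [map_mul, map_mul, h, show ψ (MvPolynomial.X j) = D.coord hU e₀ (b j.1) from MvPolynomial.aeval_X _ _, hθ]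
      show q * c (b j.1) = _
      rw [hcb, show w j.1 = MvPolynomial.X j from dif_neg j.2]
  let e : MvPolynomial σ Γ(Y, U) ≃ₐ[Γ(Y, U)] Γ(P, D.DPl hU e₀) :=
    { ψ with
      invFun := θ
      left_inv := hθψ
      right_inv := hψθ }
  haveI : Algebra.Smooth Γ(Y, U) (MvPolynomial σ Γ(Y, U)) := ⟨inferInstance, inferInstance⟩
  haveI : Algebra.Smooth Γ(Y, U) Γ(P, D.DPl hU e₀) := Algebra.Smooth.of_equiv e
  exact RingHom.smooth_algebraMap.2 this

include D in
/-- The bundle of a finite locally free module is smooth. -/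
theorem smooth_of_isFinLocFree (hE : FlatMod.IsFinLocFree E) : Smooth p := by
  classical
  rw [HasRingHomProperty.iff_exists_appLE (P := @Smooth)
    (RingHom.Smooth.stableUnderComposition.stableUnderCompositionWithLocalizationAway
      RingHom.Smooth.holdsForLocalizationAway).left]
  intro y
  obtain ⟨U₀, n, s, hyU₀, hs⟩ := SeesawVB.exists_frame_at hE (p y)
  obtain ⟨_, ⟨U, hU, rfl⟩, hyU, hUU₀⟩ := Y.isBasis_affineOpens.exists_subset_of_mem_open hyU₀ U₀.2
  have hs' := hs.res hUU₀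
  let b := hs'.basis
  obtain ⟨e, he⟩ := D.cover hU hyU
  obtain ⟨i, hi⟩ : ∃ i, y ∈ D.DPl hU (b i) := by
    by_contra hn
    push Not at hn
    have hb := D.bijective_germφ hU e he
    obtain ⟨d, hd⟩ : ∃ d : Fin n → Γ(Y, U), ∑ i, d i • b i = e := ⟨fun i => b.repr e i, b.sum_repr e⟩
    have hm : ∀ i, ∃ a ∈ IsLocalRing.maximalIdeal (P.presheaf.stalk y),
        germφ φ y hyU (b i) = a • germφ φ y hyU e := fun i => by
      obtain ⟨a, ha⟩ := hb.2 (germφ φ y hyU (b i))
      refine ⟨a, ?_, ha.symm⟩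
      rw [IsLocalRing.mem_maximalIdeal, mem_nonunits_iff]
      intro hu
      refine hn i ((D.mem_DPl_iff hU (b i) hyU).2 ?_)
      rw [← ha]
      exact (AmpleLib.bijective_smul_iff hb a).2 hu
    choose a ha hab using hm
    have h0 : germφ φ y hyU e = (∑ i, P.presheaf.germ (p ⁻¹ᵁ U) y hyU (p.app U (d i)) * a i) • germφ φ y hyU e := by
      rw [Finset.sum_smul]
      conv_lhs => rw [← hd]
      rw [show germφ φ y hyU (∑ i, d i • b i) = ∑ i, germφ φ y hyU (d i • b i) by
        unfold germφ; rw [map_sum, map_sum]]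
      refine Finset.sum_congr rfl fun i _ => ?_
      rw [germφ_smul, hab, mul_smul]
    have h1 : (1 : P.presheaf.stalk y) = ∑ i, P.presheaf.germ (p ⁻¹ᵁ U) y hyU (p.app U (d i)) * a i :=
      hb.1 ((one_smul _ _).trans h0)
    exact (IsLocalRing.maximalIdeal.isMaximal _).ne_top ((Ideal.eq_top_iff_one _).2
      (h1 ▸ Ideal.sum_mem _ fun i _ => Ideal.mul_mem_left _ _ (ha i)))
  exact ⟨⟨U, hU⟩, ⟨D.DPl hU (b i), D.isAffineOpen_DPl hU (b i)⟩, hi, D.DPl_le hU (b i), smooth_appLE_DPl D hU b i⟩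

end Groth.Agent.BlowProjLib
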