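import Groth.Agent.BlowProjLib.SmoothBundle
import Groth.Agent.ProjBundleLib.EpiClosed
import Groth.Agent.ProjBundleLib.ProjMor
import Groth.Agent.EtAlgEasy.SmoothStalkProps
import Groth.Agent.S1109
import Groth.Agent.S8855
import Groth.Agent.PullbackMod.Props
import Groth.Agent.ExactConstrLib.LocFree

/-!
Projective morphisms over regular bases embed into smooth projective ones.
-/

set_option autoImplicit false
set_option linter.style.haveILetI false
set_option backward.isDefEq.respectTransparency false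

universe u

open CategoryTheory CategoryTheory.Limits AlgebraicGeometry TopologicalSpace Opposite
open Groth.Agent.ProjBundleLib

noncomputable section

namespace Groth.Agent.BlowProjLib

variable {X Y : Scheme.{u}}

/-- A projective morphism to a regular separated Noetherian scheme factors through a smooth projective one. -/
theorem exists_smooth_factor [IsNoetherian Y] [Y.IsSeparated] (hY : ∀ y : Y, IsRegularLocalRing (Y.presheaf.stalk y))
    {f : X ⟶ Y} (hf : RelProj.IsProjective f) :
    ∃ (P : Scheme.{u}) (i : X ⟶ P) (g : P ⟶ Y),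
      IsClosedImmersion i ∧ Smooth g ∧ RelProj.IsProjective g ∧ i ≫ g = f := by
  have hres : PerfAux.HasResolutionProperty Y := Groth.Agent.S1109.result Y hY fun U V hU hV => hU.inf hV
  obtain ⟨E, Q, q, O1, φ, D, i, hE, hi, hiq⟩ := exists_closed_of_isProjective hf
  obtain ⟨E', π, hE', hπ⟩ := hres E D.hE hE
  haveI := hπ
  have hE'q := PullbackMod.isQCoh_and_isFP_of_isFinLocFree E' hE'
  obtain ⟨P, p, O1', φ', ⟨D'⟩⟩ := exists_bundle hE'q.1
  obtain ⟨k, hk, hkp, -, -⟩ := exists_closed_of_epi D' D π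
  haveI := hk
  haveI := hi
  refine ⟨P, i ≫ k, p, inferInstance, smooth_of_isFinLocFree D' hE', ?_, by rw [Category.assoc, hkp, hiq]⟩
  exact D'.isProjective_of_isClosedImmersion (ExactConstrLib.isFT_of_isFP hE'q.2) (𝟙 P) (Category.id_comp p)

theorem regular_of_smooth [IsLocallyNoetherian Y] (hY : ∀ y : Y, IsRegularLocalRing (Y.presheaf.stalk y))
    (g : X ⟶ Y) [Smooth g] (x : X) : IsRegularLocalRing (X.presheaf.stalk x) :=
  (EtAlgEasy.SmoothStalk.isRegularLocalRing_iff g (x := x)
    (by rw [Scheme.Hom.smoothLocus_eq_top]; trivial)).2 (hY _)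

/-- An open piece of a projective morphism is closed in an open piece of a smooth projective one. -/
theorem exists_smooth_quasiProjective_factor [IsNoetherian Y] [Y.IsSeparated]
    (hY : ∀ y : Y, IsRegularLocalRing (Y.presheaf.stalk y)) {f : X ⟶ Y}
    (hf : ∃ (Z : Scheme.{u}) (v : X ⟶ Z) (q : Z ⟶ Y), IsOpenImmersion v ∧ RelProj.IsProjective q ∧ v ≫ q = f) :
    ∃ (W : Scheme.{u}) (i : X ⟶ W) (p : W ⟶ Y), IsClosedImmersion i ∧ Smooth p ∧
      (∃ (P : Scheme.{u}) (v : W ⟶ P) (q : P ⟶ Y), IsOpenImmersion v ∧ RelProj.IsProjective q ∧ v ≫ q = p) ∧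
      i ≫ p = f := by
  obtain ⟨Z, v, q, hv, hq, hvq⟩ := hf
  obtain ⟨P, k, g, hk, hg, hgp, hkg⟩ := exists_smooth_factor hY hq
  haveI := hv
  haveI := hk
  haveI := hg
  let j := v ≫ k
  refine ⟨j.coborderRange, j.liftCoborder, j.coborderRange.ι ≫ g, inferInstance, inferInstance,
    ⟨P, j.coborderRange.ι, g, inferInstance, hgp, rfl⟩, ?_⟩
  rw [← Category.assoc, Scheme.Hom.liftCoborder_ι, Category.assoc, hkg, hvq]

end Groth.Agent.BlowProjLib
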